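import Cfsg.Agent.H253.TwoComm.Cent
import Cfsg.Agent.H604.Cop.Conway
import Cfsg.Agent.LThreeM.FiveFix
import Cfsg.Agent.MFive.Fus
import Cfsg.Agent.MonsterU.Chart
import Cfsg.Agent.Prune
set_option linter.all false
prune_inst 0x7f00000000000000000000000000000000000000000000000000000000000000000000000000000000000000000000000000000000000000000000000000000000000000000000000000000000000000003fffffffffffffffffffffffffffbeffbdffffffff
open scoped Cfsg.Agent.FastGrp

/-!
# The element of order 23 of `Co1` and of the centralizer of a 2B involution of the Monster (S2494, helper253)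

* `card_fix_le'` : the number of fixed classes of an element of `Co0` from coordinates separating the fixed vectors;
* `fr_s23` : `|C_{Λ/2Λ}(s23)| ≤ 4`;
* `exists_23` : an element `y` of odd order of `C(z)` with `|C_{C(z)}(y)| ≤ 184`, commuting with an element of `Q` of
  type 2.
-/

set_option autoImplicit false
set_option linter.unusedSectionVars false

namespace Cfsg.Agent.H253.TC.BM

open Cfsg Cfsg.Spor Cfsg.Agent.LeechMat.Core Cfsg.Agent.MonsterU.Lam2
open Cfsg.Agent.LThreeM.FiveFix (fixU mem_fixU)
open Cfsg.Agent.SporadicA.GolayBase Cfsg.Agent.SporadicStructure.TabPerm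
open Cfsg.Agent.H604.Cop.Conway
open Cfsg.Agent.CpAutBig.Tab
open Cfsg.Agent.LThreeMB (fr)
open Cfsg.Agent.MonsterU.Ch
open Subgroup (centralizer mem_centralizer_singleton_iff)

/-- Every fixed class contains a fixed vector. -/
theorem exists_fixed_odd {g : Co0} {n : ℕ} (ho : Odd n) (hg : g ^ n = 1) {x : L2} (hx : g • x = x) :
    ∃ v : leechLattice, g • v = v ∧ cl v = x := by
  obtain ⟨v, rfl⟩ := cl_surjective x
  have hn : ∀ n : ℕ, cl (g ^ n • v) = cl v := by
    intro n
    induction n with
    | zero => rw [pow_zero, one_smul]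
    | succ n ih => rw [pow_succ', mul_smul, ← smul_cl, ih, hx]
  refine ⟨∑ i ∈ Finset.range n, g ^ i • v, ?_, ?_⟩
  · rw [show g • (∑ i ∈ Finset.range n, g ^ i • v) = smulHom g (∑ i ∈ Finset.range n, g ^ i • v) from rfl, map_sum]
    have h1 : ∑ i ∈ Finset.range n, smulHom g (g ^ i • v) = ∑ i ∈ Finset.range n, g ^ (i + 1) • v := by
      refine Finset.sum_congr rfl fun i _ => ?_
      rw [pow_succ', mul_smul]
      rfl
    rw [h1]
    have h2 := Finset.sum_range_succ (fun i => g ^ i • v) n
    rw [Finset.sum_range_succ', hg, pow_zero, one_smul] at h2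
    exact add_right_cancel h2
  · rw [map_sum, Finset.sum_congr rfl fun i _ => hn i, Finset.sum_const, Finset.card_range]
    obtain ⟨k, rfl⟩ := ho
    rw [add_smul, mul_smul, one_smul, two_smul, add_self, zero_add]

/-- The number of fixed classes, from coordinates which separate the fixed vectors. -/
theorem card_fix_le' {g : Co0} {n : ℕ} (ho : Odd n) (hg : g ^ n = 1) {ι : Type} [Fintype ι] (rep : ι → GolayPt)
    (hrep : ∀ v : leechLattice, g • v = v → (∀ i, (v : GolayPt → ℤ) (rep i) = 0) → v = 0) :
    Nat.card ↥(fixU g) ≤ 2 ^ Fintype.card ι := by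
  classical
  obtain ⟨k, hk⟩ : ∃ k, Module.finrank (ZMod 2) ↥(fixU g) = k := ⟨_, rfl⟩
  let b := (Module.finBasis (ZMod 2) ↥(fixU g)).reindex (finCongr hk)
  choose w hw hwc using fun i => exists_fixed_odd ho hg (b i).2
  let f : Fin k → (ι → ℤ) := fun i j => (w i : GolayPt → ℤ) (rep j)
  have hdvd : ∀ n : ℕ, ∀ c : Fin k → ℤ, ∑ i, c i • w i = 0 → ∀ i, (2 : ℤ) ^ n ∣ c i := by
    intro n
    induction n with
    | zero => intro c _ i; rw [pow_zero]; exact one_dvd _
    | succ n ih =>
      intro c hc
      have h2 : ∀ i, (2 : ℤ) ∣ c i := by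
        have h1 : ∑ i, (c i : ZMod 2) • b i = 0 := by
          apply Subtype.ext
          have h3 := congrArg cl hc
          rw [map_sum, map_zero] at h3
          rw [Submodule.coe_sum]
          refine Eq.trans (Finset.sum_congr rfl fun i _ => ?_) h3
          rw [map_zsmul, hwc i, Submodule.coe_smul, Int.cast_smul_eq_zsmul]
        intro i
        have h4 := (linearIndependent_iff'.1 b.linearIndependent) Finset.univ _ h1 i (Finset.mem_univ i)
        exact (ZMod.intCast_zmod_eq_zero_iff_dvd _ 2).1 h4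
      choose c' hc' using h2
      have h5 : ∑ i, c' i • w i = 0 := by
        have h6 : (2 : ℤ) • ∑ i, c' i • w i = 0 := by
          rw [Finset.smul_sum, ← hc]
          refine Finset.sum_congr rfl fun i _ => ?_
          rw [smul_smul, ← hc' i]
        have h7 : ∀ x : leechLattice, (2 : ℤ) • x = 0 → x = 0 := by
          intro x hx
          apply Subtype.ext
          funext i
          have h8 := congrFun (congrArg Subtype.val hx) i
          change (2 : ℤ) • (x : GolayPt → ℤ) i = 0 at h8
          change (x : GolayPt → ℤ) i = 0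
          rw [smul_eq_mul] at h8
          omega
        exact h7 _ h6
      intro i
      rw [pow_succ, mul_comm, hc' i]
      exact mul_dvd_mul_left 2 (ih c' h5 i)
  have hli : LinearIndependent ℤ f := by
    rw [Fintype.linearIndependent_iff]
    intro c hc i
    have h1 : ∑ i, c i • w i = 0 := by
      apply hrep
      · rw [show g • (∑ i, c i • w i) = smulHom g (∑ i, c i • w i) from rfl, map_sum]
        refine Finset.sum_congr rfl fun i _ => ?_
        rw [map_zsmul]
        change c i • (g • w i) = _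
        rw [hw i]
      · intro j
        have h2 := congrFun hc j
        rw [Finset.sum_apply] at h2
        rw [AddSubgroup.val_finsetSum, Finset.sum_apply]
        exact h2
    have h3 := hdvd (c i).natAbs c h1 i
    by_contra hne
    have h4 := Int.natAbs_dvd_natAbs.2 h3
    rw [Int.natAbs_pow] at h4
    have h5 := Nat.le_of_dvd (Int.natAbs_pos.2 hne) h4
    have h6 : (c i).natAbs < 2 ^ (c i).natAbs := Nat.lt_two_pow_self
    exact absurd h5 (not_le.2 h6)
  have h1 := hli.fintype_card_le_finrank
  rw [Fintype.card_fin, Module.finrank_fintype_fun_eq_card] at h1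
  have h2 : Nat.card ↥(fixU g) = 2 ^ k := by
    have : Fintype ↥(fixU g) := Fintype.ofFinite _
    rw [Nat.card_eq_fintype_card, Module.card_eq_pow_finrank (K := ZMod 2), ZMod.card, hk]
  rw [h2]
  exact Nat.pow_le_pow_right (by norm_num) h1

/-- a fixed vector of `r23` is constant off the point at infinity -/
theorem r23_const {v : leechLattice} (hv : r23 • v = v) {p : GolayPt} (hp : idx p ≠ 23) :
    (v : GolayPt → ℤ) p = (v : GolayPt → ℤ) (pt 0) := by
  have h1 : ∀ q : GolayPt, (v : GolayPt → ℤ) (pi23 q) = (v : GolayPt → ℤ) q := by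
    intro q
    have h2 := isPerm_r23 v (pi23 q)
    rw [hv, Equiv.symm_apply_apply] at h2
    exact h2
  have h2 : ∀ (n : ℕ) (q : GolayPt), (v : GolayPt → ℤ) ((pi23 ^ n : Equiv.Perm GolayPt) q) = (v : GolayPt → ℤ) q := by
    intro n
    induction n with
    | zero => intro q; rfl
    | succ n ih => intro q; rw [pow_succ', Equiv.Perm.mul_apply, h1, ih]
  have hlt := idx_lt p
  have h3 := iter_check (idx p) (by omega)
  have h4 : (pi23 ^ (idx p) : Equiv.Perm GolayPt) (pt 0) = p := by
    apply idx_injective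
    rw [show idx ((pi23 ^ (idx p) : Equiv.Perm GolayPt) (pt 0)) = (fun j => F23.getD j 0)^[idx p] (idx (pt 0)) from
      idx_iter chk23 (idx p) _, idx_pt (by norm_num), h3]
  rw [← h2 (idx p) (pt 0), h4]

theorem card_fixU_r23 : Nat.card ↥(fixU r23) ≤ 4 := by
  have h := card_fix_le' (g := r23) (n := 23) (by decide) r23_pow (ι := Fin 2) ![pt 23, pt 0] (by
    intro v hv h0
    apply Subtype.ext
    funext p
    by_cases hp : idx p = 23
    · rw [← pt_idx p, hp]
      exact h0 0
    · rw [r23_const hv hp]
      exact h0 1)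
  simpa using h

theorem fr_s23 : fr s23 ≤ 4 := by
  refine le_trans (le_of_eq ?_) card_fixU_r23
  rfl

/-- `r23` fixes a vector of type 2 -/
theorem r23_lA : r23 • lA = lA := by
  apply Subtype.ext
  funext p
  rw [isPerm_r23 lA p]
  have h1 : pi23 none = none := pi23_fix
  show (if pi23.symm p = none then (3 : ℤ) else -1) = if p = none then 3 else -1
  by_cases hp : p = none
  · subst hp
    rw [if_pos rfl, if_pos (by rw [Equiv.symm_apply_eq, h1])]
  · rw [if_neg hp, if_neg]
    intro h
    exact hp (by rw [← h1, ← h, Equiv.apply_symm_apply])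

theorem s23_lA : s23 • cl lA = cl lA := by
  show (QuotientGroup.mk r23 : Co1) • cl lA = cl lA
  rw [mk_smul, smul_cl, r23_lA]

theorem isType_lA : IsType 2 (cl lA) := ⟨lA, by show sqNorm vA = 16 * 2; decide, rfl⟩

section chart

variable {G : Type*} [Group G] {Q : Subgroup G} {z : G} {eta : G → L2}
  {pi : Subgroup.centralizer ({z} : Set G) →* Co1}

/-- **The element of order 23 of `C(z)`.** -/
theorem exists_23 [Finite G] (h : Chart Q z eta pi) :
    ∃ (y : G) (hy : y * z = z * y), y ^ 23 = 1 ∧
      Nat.card (centralizer ({(⟨y, mem_centralizer_singleton_iff.2 hy⟩ : centralizer ({z} : Set G))} :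
        Set (centralizer ({z} : Set G)))) ≤ 184 ∧
      ∃ t ∈ Q, IsType 2 (eta t) ∧ y * t = t * y ∧ z * t = t * z := by
  have hfin := BpSpor.MBigCo.finite_co1
  obtain ⟨c, hc⟩ := h.pi_surj s23
  have hs : s23 ^ 23 = 1 := by rw [← orderOf_s23, pow_orderOf_eq_one]
  let x : centralizer ({z} : Set G) := c ^ 24
  have hpx : pi x = s23 := by
    rw [map_pow, hc, show (24 : ℕ) = 23 + 1 from rfl, pow_succ, hs, one_mul]
  have hx : x ^ 23 = 1 := by
    have h1 : ((c ^ 23 : centralizer ({z} : Set G)) : G) ∈ Q := (h.pi_eq_one _).1 (by rw [map_pow, hc, hs])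
    have h2 := Cfsg.Agent.MFive.pow_four h h1
    have h3 : (c ^ 23) ^ 4 = 1 := Subtype.ext (by rw [SubmonoidClass.coe_pow]; exact h2)
    show (c ^ 24) ^ 23 = 1
    rw [← pow_mul, show 24 * 23 = 23 * 4 * 6 from rfl, pow_mul, pow_mul, h3, one_pow]
  have hxz : (x : G) * z = z * x := mem_centralizer_singleton_iff.1 x.2
  refine ⟨x, hxz, Cfsg.Agent.MFive.coe_pow hx, ?_, ?_⟩
  · refine (card_cent_ext_le pi x).trans ?_
    rw [hpx, show (184 : ℕ) = 8 * 23 from rfl]
    refine Nat.mul_le_mul ?_ card_cent_s23
    have h1 := Cfsg.Agent.MFive.card_pre h (p := 23) (by decide) hx ⊤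
    have h2 : Nat.card {v : L2 // v ∈ (⊤ : AddSubgroup L2) ∧ pi x • v = v} = fr s23 := by
      rw [hpx]
      exact Nat.card_congr (Equiv.subtypeEquivRight fun v => ⟨fun hv => hv.2, fun hv => ⟨AddSubgroup.mem_top v, hv⟩⟩)
    rw [h2] at h1
    have h3 : Nat.card (pi.ker ⊓ centralizer ({x} : Set (centralizer ({z} : Set G))) : Subgroup _) ≤
        Nat.card {q : G // (q ∈ Q ∧ eta q ∈ (⊤ : AddSubgroup L2)) ∧ (x : G) * q = q * x} := by
      refine Nat.card_le_card_of_injective (fun q => ⟨((q : centralizer ({z} : Set G)) : G),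
        ⟨(h.pi_eq_one _).1 (MonoidHom.mem_ker.1 q.2.1), AddSubgroup.mem_top _⟩,
        (congrArg Subtype.val (mem_centralizer_singleton_iff.1 q.2.2)).symm⟩) ?_
      intro a b hab
      have h5 : ((a : centralizer ({z} : Set G)) : G) = ((b : centralizer ({z} : Set G)) : G) :=
        congrArg (fun w : {q : G // (q ∈ Q ∧ eta q ∈ (⊤ : AddSubgroup L2)) ∧ (x : G) * q = q * x} => (w : G)) hab
      exact Subtype.ext (Subtype.ext h5)
    refine h3.trans ?_
    rw [h1]
    have := fr_s23
    omega
  · obtain ⟨t, htQ, ht⟩ := h.eta_surj (cl lA)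
    refine ⟨t, htQ, by rw [ht]; exact isType_lA, ?_, (h.large.comm_z t htQ).symm⟩
    rw [Cfsg.Agent.MFive.comm_iff_fix h (p := 23) (by decide) hx htQ, hpx, ht, s23_lA]

end chart

end Cfsg.Agent.H253.TC.BM
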