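import Cfsg.Agent.H253.TwoComm.Cent
import Cfsg.Agent.H604.Cop.Conway
import Cfsg.Agent.S2044
import Cfsg.Agent.S0397
import Cfsg.Agent.S2045
import Cfsg.Agent.H603.SporElim
import Cfsg.Agent.TypeM.FactsLy
import Cfsg.Agent.TypeM.FactsMcL
import Cfsg.Agent.S2050
import Cfsg.Agent.S2047
import Cfsg.Agent.H253.TwoComm.FixTt
import Cfsg.Agent.H332.BabyUpper
import Cfsg.Agent.S2059
import Cfsg.Agent.H723.Spor.Th
import Cfsg.Agent.S2057
import Cfsg.Agent.FastGrp
import Cfsg.Agent.Prune
set_option linter.all false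

section
prune_inst 0x7f00000000000000000000000000000000000000000000000000000000000000000000000000000000000000000000000000000000000000000000000000000000000000000000000000000000000000003fffffffffffffffffffffffffffbeffbdffffffff

-- part: H253/TwoComm/RowCo23_mg
section
set_option linter.all false
open scoped Cfsg.Agent.FastGrp

-- part: H253/TwoComm/RowCo23
section
/-!
# The second and third Conway groups (S2494, helper253)
-/

set_option autoImplicit false

namespace Cfsg.Agent.H253.TC

open Cfsg Subgroup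
open Cfsg.Agent.H604.Cop.Conway
universe u


theorem orderOf_r23 : orderOf r23 = 23 := by
  have : Fact (Nat.Prime 23) := ⟨by norm_num⟩
  exact orderOf_eq_prime r23_pow r23_ne

/-- subgroups of `Co0` -/
theorem exists_cent_co0 {H : Subgroup (Equiv.Perm leechLattice)} (hH : H ≤ Co0) (h : 23 ∣ Nat.card H) :
    ∃ m : H, Nat.card (centralizer ({m} : Set H)) ≤ 46 := by
  have hfin : Finite Co0 := Nat.finite_of_card_ne_zero (by rw [Cfsg.Agent.S0397.result]; norm_num)
  have : Fact (Nat.Prime 23) := ⟨by norm_num⟩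
  have hinj : Function.Injective (Subgroup.inclusion hH) := Subgroup.inclusion_injective hH
  have : Finite H := Finite.of_injective _ hinj
  obtain ⟨x, hx⟩ := exists_prime_orderOf_dvd_card' (G := H) 23 h
  refine ⟨x, (card_cent_le_of_inj (Subgroup.inclusion hH) hinj x).trans ?_⟩
  rw [card_cent_of_once (p := 23) (by norm_num) ?_ (y := r23) (by rw [orderOf_injective _ hinj, hx]) orderOf_r23]
  · exact card_cent_r23
  · rw [Cfsg.Agent.S0397.result]; norm_num

theorem row_co2 {K : Type u} [Group K] [IsSimpleGroup K] (h : Spor.IsoCo2 K) : Row K := by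
  have hn := NotCT.Orders.co2 h
  obtain ⟨e⟩ := h
  have hs : IsSimpleGroup Spor.Co2 := e.symm.isSimpleGroup
  refine Row.congr ?_ e.symm
  have hn' : Nat.card Spor.Co2 = 42305421312000 := by rw [← hn, Nat.card_congr e.toEquiv]
  obtain ⟨m, hm⟩ := exists_cent_co0 (H := Spor.Co2) inf_le_left (by rw [hn']; norm_num)
  exact Row.of_card (p := 23) hn' (by norm_num) (by norm_num) S2044.result (by norm_num) (by norm_num)
    (by norm_num) (by norm_num) (by norm_num) (by norm_num) (by norm_num) m hm (by norm_num)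

theorem row_co3 {K : Type u} [Group K] [IsSimpleGroup K] (h : Spor.IsoCo3 K) : Row K := by
  have hn := NotCT.Orders.co3 h
  obtain ⟨e⟩ := h
  have hs : IsSimpleGroup Spor.Co3 := e.symm.isSimpleGroup
  refine Row.congr ?_ e.symm
  have hn' : Nat.card Spor.Co3 = 495766656000 := by rw [← hn, Nat.card_congr e.toEquiv]
  obtain ⟨m, hm⟩ := exists_cent_co0 (H := Spor.Co3) inf_le_left (by rw [hn']; norm_num)
  exact Row.of_card (p := 23) hn' (by norm_num) (by norm_num) S2045.result (by norm_num) (by norm_num)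
    (by norm_num) (by norm_num) (by norm_num) (by norm_num) (by norm_num) m hm (by norm_num)


end Cfsg.Agent.H253.TC
end

-- part: H253/TwoComm/RowMT
section
/-!
# The McLaughlin and Lyons groups (S2494, helper253)
-/

set_option autoImplicit false

namespace Cfsg.Agent.H253.TC

open Cfsg Subgroup Equiv
open Cfsg.Agent.TypeM Cfsg.Agent.TypeM.Two Cfsg.Agent.SporRec.TwoAn

universe u

/-- `C(t) = 2.A_n`, `p ≤ n < 2 p`: an element with centralizer of order at most `2 (n - p)! p` -/
theorem exists_cent_mt {n : ℕ} {G : Type*} [Group G] [Finite G] (L : MT n G) {p : ℕ} (hp : p.Prime) (hp2 : p ≠ 2)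
    (hn : p ≤ n) (hn2 : n < 2 * p) : ∃ m : G, Nat.card (centralizer ({m} : Set G)) ≤ 2 * ((n - p).factorial * p) := by
  obtain ⟨σ, hσ, ho⟩ := exists_even_prime hp hp2 hn
  have hodd := hp.odd_of_ne_two hp2
  obtain ⟨y, hy, hyp⟩ := L.K.exists_odd_lift hσ hodd (by rw [← ho, pow_orderOf_eq_one])
  refine ⟨L.t * y, (card_cent_mul_le L.t_mul_t (mem_centralizer_singleton_iff.1 y.2) hodd
    (congrArg Subtype.val hyp)).trans ?_⟩
  refine card_cent_ext_le' L.K.π _ ?_ ?_
  · have h1 : (L.K.π.ker : Set (centralizer ({L.t} : Set G))) ⊆ {1, L.K.z} := fun x hx => (L.K.ker x).1 hx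
    calc Nat.card L.K.π.ker = (L.K.π.ker : Set (centralizer ({L.t} : Set G))).ncard := rfl
      _ ≤ ({1, L.K.z} : Set (centralizer ({L.t} : Set G))).ncard := Set.ncard_le_ncard h1 (Set.toFinite _)
      _ ≤ ({L.K.z} : Set (centralizer ({L.t} : Set G))).ncard + 1 := Set.ncard_insert_le _ _
      _ = 2 := by rw [Set.ncard_singleton]
  · have h1 : L.K.π (⟨(y : G), mem_centralizer_singleton_iff.2 (mem_centralizer_singleton_iff.1 y.2)⟩ :
      centralizer ({L.t} : Set G)) = σ := hy
    rw [h1, card_cent_perm hp hn2 ho]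

theorem row_ly {K : Type u} [Group K] [IsSimpleGroup K] (h : Spor.IsoLy K) : Row K := by
  obtain ⟨e⟩ := h
  obtain ⟨hfin, hs, hn, ⟨L⟩⟩ := FactsLy.facts (M := Spor.Ly) ⟨MulEquiv.refl _⟩
  refine Row.congr ?_ e.symm
  obtain ⟨m, hm⟩ := exists_cent_mt L (p := 11) (by norm_num) (by norm_num) (by norm_num) (by norm_num)
  exact Row.of_card (p := 67) hn (by norm_num) (by norm_num) S2050.result (by norm_num) (by norm_num)
    (by norm_num) (by norm_num) (by norm_num) (by norm_num) (by norm_num) m hm (by norm_num [Nat.factorial])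

/-- the translations of `2^3` -/
def tr8 (i : Fin 8) : Perm (Fin 8) where
  toFun x := ⟨i.val ^^^ x.val, Nat.xor_lt_two_pow (n := 3) i.2 x.2⟩
  invFun x := ⟨i.val ^^^ x.val, Nat.xor_lt_two_pow (n := 3) i.2 x.2⟩
  left_inv x := Fin.ext (by simp)
  right_inv x := Fin.ext (by simp)

theorem tr8_mul : ∀ i j : Fin 8, ∃ k : Fin 8, tr8 i * tr8 j = tr8 k := by decide +kernel

theorem tr8_sq : ∀ i : Fin 8, tr8 i * tr8 i = 1 := by decide +kernel

theorem tr8_sign : ∀ i : Fin 8, Perm.sign (tr8 i) = 1 := by decide +kernel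

theorem tr8_supp : ∀ i : Fin 8, 8 ∣ (tr8 i).support.card := by decide +kernel

theorem tr8_inj : ∀ i j : Fin 8, tr8 i = tr8 j → i = j := by decide +kernel

theorem tr8_zero : tr8 0 = 1 := by decide +kernel

/-- an elementary abelian subgroup of order at least 8 -/
theorem exists_sub_mt {G : Type*} [Group G] [Finite G] (L : MT 8 G) : ∃ B : Subgroup G, IsPGroup 2 B ∧
    (∀ a ∈ B, a * a = 1) ∧ 8 ≤ Nat.card B := by
  let V : Subgroup (Perm (Fin 8)) :=
    { carrier := Set.range tr8
      mul_mem' := by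
        rintro _ _ ⟨i, rfl⟩ ⟨j, rfl⟩
        obtain ⟨k, hk⟩ := tr8_mul i j
        exact ⟨k, hk.symm⟩
      one_mem' := ⟨0, tr8_zero⟩
      inv_mem' := by
        rintro _ ⟨i, rfl⟩
        exact ⟨i, (inv_eq_of_mul_eq_one_left (tr8_sq i)).symm⟩ }
  let B0 : Subgroup (centralizer ({L.t} : Set G)) := V.comap L.K.π
  have hsq : ∀ g ∈ B0, g * g = 1 := by
    rintro g ⟨i, hi⟩
    rw [L.K.sq_eq_one_iff, ← hi]
    exact ⟨tr8_sq i, tr8_supp i⟩
  let B : Subgroup G := B0.map (centralizer ({L.t} : Set G)).subtype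
  have hsqB : ∀ a ∈ B, a * a = 1 := by
    rintro _ ⟨g, hg, rfl⟩
    have := hsq g hg
    exact congrArg Subtype.val this
  refine ⟨B, fun a => ⟨1, Subtype.ext ?_⟩, hsqB, ?_⟩
  · have := hsqB a a.2
    simpa only [pow_two, _root_.pow_one, _root_.Subgroup.coe_mul, _root_.OneMemClass.coe_one] using this
  · have h1 : Nat.card B = Nat.card B0 :=
      Nat.card_congr (Subgroup.equivMapOfInjective B0 _ (Subgroup.subtype_injective _)).toEquiv.symm
    rw [h1]
    choose g hg using fun i : Fin 8 => L.K.exists_lift (Perm.mem_alternatingGroup.2 (tr8_sign i))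
    have h2 : Function.Injective (fun i : Fin 8 => (⟨g i, ⟨i, (hg i).symm⟩⟩ : B0)) := by
      intro i j hij
      have h3 : g i = g j := congrArg Subtype.val hij
      exact tr8_inj i j (by rw [← hg i, ← hg j, h3])
    have h3 := Nat.card_le_card_of_injective _ h2
    simpa only [_root_.ge_iff_le, _root_.Nat.card_eq_fintype_card, _root_.Fintype.card_fin] using h3

theorem row_mcl {K : Type u} [Group K] [IsSimpleGroup K] (h : Spor.IsoMcL K) : Row K := by
  obtain ⟨e⟩ := h
  obtain ⟨hfin, hs, hn, ⟨L⟩⟩ := FactsMcL.facts (M := Spor.McL) ⟨MulEquiv.refl _⟩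
  refine Row.congr ?_ e.symm
  obtain ⟨m, hm⟩ := exists_cent_mt L (p := 7) (by norm_num) (by norm_num) (by norm_num) (by norm_num)
  obtain ⟨B, hB, hB2, hB8⟩ := exists_sub_mt L
  have hD : PD Spor.McL 7 := by
    refine PD.of_fused (p := 2) Nat.prime_two (not_dvd_ker S2047.result (p := 2) (by
      rw [Nat.card_congr Multiplicative.toAdd, Nat.card_zmod]; norm_num)) B hB ?_ (by omega)
    intro a ha ha1 b hb hb1
    obtain ⟨g, hg⟩ := L.one a (hB2 a ha) ha1
    obtain ⟨g', hg'⟩ := L.one b (hB2 b hb) hb1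
    exact (isConj_iff.2 ⟨g, hg⟩).symm.trans (isConj_iff.2 ⟨g', hg'⟩)
  exact Row.of_pd hn (by norm_num) (by norm_num) S2047.result hD (by norm_num) m hm (by norm_num [Nat.factorial])

end Cfsg.Agent.H253.TC
end

-- part: H253/TwoComm/RowBM
section
/-!
# The Baby Monster and the Monster (S2494, helper253)
-/

set_option autoImplicit false

namespace Cfsg.Agent.H253.TC

open Cfsg Subgroup
open Cfsg.Agent.MonsterU.Ch
open Cfsg.Agent.MonsterU.Lam2 (L2 IsType)

universe u

/-- central quotients do not enlarge centralizers -/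
theorem card_cent_le_of_central {E X : Type*} [Group E] [Finite E] [Group X] (φ : E →* X)
    (hφ : Function.Surjective φ) (hk : φ.ker ≤ center E) (x : E) :
    Nat.card (centralizer ({φ x} : Set X)) ≤ Nat.card (centralizer ({x} : Set E)) := by
  have hX : Finite X := Finite.of_surjective φ hφ
  let P : Subgroup E := (centralizer ({φ x} : Set X)).comap φ
  have hP : ∀ g : P, (g : E) * x * (g : E)⁻¹ * x⁻¹ ∈ φ.ker := by
    intro g
    have h1 : φ g * φ x = φ x * φ g := mem_centralizer_singleton_iff.1 g.2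
    rw [MonoidHom.mem_ker, map_mul, map_mul, map_mul, map_inv, map_inv, h1, mul_inv_cancel_right, mul_inv_cancel]
  let θ : P →* φ.ker :=
    { toFun := fun g => ⟨_, hP g⟩
      map_one' := Subtype.ext (by
        show ((1 : P) : E) * x * ((1 : P) : E)⁻¹ * x⁻¹ = 1
        rw [OneMemClass.coe_one, one_mul, inv_one, mul_one, mul_inv_cancel])
      map_mul' := fun g h => Subtype.ext (by
        show ((g * h : P) : E) * x * ((g * h : P) : E)⁻¹ * x⁻¹ =
          ((g : E) * x * (g : E)⁻¹ * x⁻¹) * ((h : E) * x * (h : E)⁻¹ * x⁻¹)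
        have h1 := mem_center_iff.1 (hk (hP h))
        have h2 : ((g * h : P) : E) * x * ((g * h : P) : E)⁻¹ * x⁻¹ =
            (g : E) * ((h : E) * x * (h : E)⁻¹ * x⁻¹) * (x * (g : E)⁻¹ * x⁻¹) := by
          rw [Subgroup.coe_mul]; group
        rw [h2, h1 g, h1 ((g : E) * x * (g : E)⁻¹ * x⁻¹)]
        simp only [mul_assoc]) }
  have h1 : Nat.card P = Nat.card θ.ker * Nat.card θ.range := (card_ker_mul_card_range θ).symm
  have h2 : Nat.card θ.range ≤ Nat.card φ.ker := Nat.card_le_card_of_injective _ Subtype.val_injective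
  have h3 : Nat.card θ.ker ≤ Nat.card (centralizer ({x} : Set E)) := by
    refine Nat.card_le_card_of_injective (fun g => ⟨((g : P) : E), mem_centralizer_singleton_iff.2 ?_⟩) ?_
    · have h4 : ((g : P) : E) * x * ((g : P) : E)⁻¹ * x⁻¹ = 1 := congrArg Subtype.val g.2
      rw [mul_inv_eq_one, mul_inv_eq_iff_eq_mul] at h4
      exact h4
    · intro a b hab
      have h5 : ((a : P) : E) = ((b : P) : E) :=
        congrArg (fun w : centralizer ({x} : Set E) => (w : E)) hab
      exact Subtype.ext (Subtype.ext h5)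
  let ψ : P →* centralizer ({φ x} : Set X) :=
    { toFun := fun g => ⟨φ g, g.2⟩
      map_one' := Subtype.ext (map_one φ)
      map_mul' := fun a b => Subtype.ext (map_mul φ _ _) }
  have hψ : Function.Surjective ψ := by
    rintro ⟨c, hc⟩
    obtain ⟨g, rfl⟩ := hφ c
    exact ⟨⟨g, hc⟩, rfl⟩
  have h6 : Nat.card P = Nat.card ψ.ker * Nat.card (centralizer ({φ x} : Set X)) := by
    rw [← card_ker_mul_card_range ψ, MonoidHom.range_eq_top.2 hψ, card_top]
  have h7 : Nat.card φ.ker ≤ Nat.card ψ.ker := by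
    refine Nat.card_le_card_of_injective (fun g => ⟨⟨(g : E), ?_⟩, ?_⟩) ?_
    · show φ (g : E) ∈ centralizer ({φ x} : Set X)
      rw [MonoidHom.mem_ker.1 g.2]
      exact one_mem _
    · exact Subtype.ext (MonoidHom.mem_ker.1 g.2)
    · intro a b hab
      exact Subtype.ext (congrArg (fun w : ψ.ker => ((w : P) : E)) hab)
  have h8 : 0 < Nat.card φ.ker := Nat.card_pos
  have h9 : Nat.card φ.ker * Nat.card (centralizer ({φ x} : Set X)) ≤
      Nat.card φ.ker * Nat.card (centralizer ({x} : Set E)) := by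
    calc Nat.card φ.ker * Nat.card (centralizer ({φ x} : Set X))
        ≤ Nat.card ψ.ker * Nat.card (centralizer ({φ x} : Set X)) := Nat.mul_le_mul_right _ h7
      _ = Nat.card θ.ker * Nat.card θ.range := by rw [← h6, h1]
      _ ≤ Nat.card (centralizer ({x} : Set E)) * Nat.card φ.ker := Nat.mul_le_mul h3 h2
      _ = _ := mul_comm _ _
  exact Nat.le_of_mul_le_mul_left h9 h8

theorem exists_bm : ∃ (Q : Subgroup Spor.Monster) (z : Spor.Monster) (eta : Spor.Monster → L2)
    (pi : centralizer ({z} : Set Spor.Monster) →* Spor.Co1) (x t : Spor.Monster), Chart Q z eta pi ∧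
      Nat.card (centralizer ({x} : Set Spor.Monster)) ≤ 184 ∧ t ∈ Q ∧ IsType 2 (eta t) ∧ x * t = t * x := by
  have := Cfsg.Agent.H848.MonsterSetup.finite
  obtain ⟨Q, z, eta, pi, h⟩ := Cfsg.Agent.H848.MonsterSetup.exists_chart
  obtain ⟨y, hy, hy1, hc, t, htQ, ht, hyt, hzt⟩ := BM.exists_23 h
  refine ⟨Q, z, eta, pi, z * y, t, h, ?_, htQ, ht, ?_⟩
  · exact (card_cent_mul_le h.large.z_sq hy (r := 23) (by decide) hy1).trans hc
  · rw [mul_assoc, hyt, ← mul_assoc, hzt, mul_assoc]

theorem row_m {K : Type u} [Group K] [IsSimpleGroup K] (h : Spor.IsoM K) : Row K := by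
  obtain ⟨e⟩ := h
  have hs := Cfsg.Agent.H848.MonsterSetup.simple
  have := Cfsg.Agent.H848.MonsterSetup.finite
  refine Row.congr ?_ e.symm
  obtain ⟨Q, z, eta, pi, x, t, -, hx, -⟩ := exists_bm
  exact Row.of_card (p := 71) Cfsg.Agent.H848.MonsterSetup.card (by norm_num) (by norm_num) S2059.result (by norm_num)
    (by norm_num) (by norm_num) (by norm_num) (by norm_num) (by norm_num) (by norm_num) x hx (by norm_num)

theorem row_b {K : Type u} [Group K] [IsSimpleGroup K] (h : Spor.IsoB K) : Row K := by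
  have hn := NotCT.Orders.b h
  obtain ⟨e⟩ := h
  have hs : IsSimpleGroup Spor.BabyMonster := e.symm.isSimpleGroup
  have := Cfsg.Agent.H848.MonsterSetup.finite
  refine Row.congr ?_ e.symm
  obtain ⟨Q, z, eta, pi, x, t, hch, hx, htQ, ht, hxt⟩ := exists_bm
  obtain ⟨-, -, ⟨f⟩, -⟩ := Cfsg.Agent.H973.BabyCov.cover_of_type_two hch htQ ht
  let φ : centralizer ({t} : Set Spor.Monster) →* Spor.BabyMonster :=
    f.toMonoidHom.comp (QuotientGroup.mk' (center _))
  have hφ : Function.Surjective φ := f.surjective.comp (QuotientGroup.mk'_surjective _)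
  have hker : φ.ker ≤ center _ := by
    intro g hg
    have h1 : f (QuotientGroup.mk' _ g) = 1 := hg
    rw [map_eq_one_iff f f.injective, ← MonoidHom.mem_ker, QuotientGroup.ker_mk'] at h1
    exact h1
  let x' : centralizer ({t} : Set Spor.Monster) := ⟨x, mem_centralizer_singleton_iff.2 hxt⟩
  have h1 := card_cent_le_of_central φ hφ hker x'
  have h2 := card_cent_le_of_inj (centralizer ({t} : Set Spor.Monster)).subtype (subtype_injective _) x'
  have h3 := (h1.trans h2).trans hx
  have hn' : Nat.card Spor.BabyMonster = 4154781481226426191177580544000000 := by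
    rw [← hn, Nat.card_congr e.toEquiv]
  exact Row.of_card (p := 47) hn' (by norm_num) (by norm_num) S2058.result (by norm_num)
    (by norm_num) (by norm_num) (by norm_num) (by norm_num) (by norm_num) (by norm_num) (φ x') h3 (by norm_num)

end Cfsg.Agent.H253.TC
end
end

-- part: H951/TCRowTh
section
set_option linter.all false
open scoped Cfsg.Agent.FastGrp

/-!
# Products of two commutators: the Thompson group (helper951)

`s` of order `7`, `a` a commuting involution: `C(s) ∩ C(a) = 7 × D₈`.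
-/

set_option autoImplicit false

namespace Cfsg.Agent.H951.TCRowTh

open Cfsg Subgroup Cfsg.Agent.H253.TC

universe u v

theorem card_le {G : Type u} [Group G] [Finite G] {s a c d : G} (h : Cfsg.Agent.ThType.CentSeven.Setup s a c d) :
    Nat.card (centralizer ({a * s} : Set G)) ≤ 56 := by
  have hs7 : s ^ 7 = 1 := by rw [← h.s7]; exact pow_orderOf_eq_one _
  refine (card_cent_mul_le h.a2 h.as.symm (r := 7) (by decide) hs7).trans ?_
  have h8 : Nat.card (closure ({c, d * c * d} : Set G)) = 8 :=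
    Cfsg.Agent.ThType.CentSeven.card_closure h.c2 h.f2 h.ha h.a2 h.a1
  have h7 : Nat.card (zpowers s) = 7 := by rw [Nat.card_zpowers, h.s7]
  have h56 : Nat.card (↥(zpowers s) × ↥(closure ({c, d * c * d} : Set G))) = 56 := by
    rw [Nat.card_prod, h8, h7]
  rw [← h56]
  have hy : ∀ y : ↥(centralizer ({(⟨s, mem_centralizer_singleton_iff.2 h.as.symm⟩ : centralizer ({a} : Set G))} :
        Set (centralizer ({a} : Set G)))), ∃ p : ↥(zpowers s) × ↥(closure ({c, d * c * d} : Set G)),
        (((y : centralizer ({a} : Set G)) : G)) = (p.1 : G) * (p.2 : G) := by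
    intro y
    have h1 : ((y : centralizer ({a} : Set G)) : G) * a = a * ((y : centralizer ({a} : Set G)) : G) :=
      mem_centralizer_singleton_iff.1 (y : centralizer ({a} : Set G)).2
    have h2 : ((y : centralizer ({a} : Set G)) : G) * s = s * ((y : centralizer ({a} : Set G)) : G) :=
      congrArg Subtype.val (mem_centralizer_singleton_iff.1 y.2)
    obtain ⟨i, z, hz, hyz⟩ := h.hC _ h2 h1
    exact ⟨(⟨s ^ i, zpow_mem (mem_zpowers s) i⟩, ⟨z, hz⟩), hyz⟩
  choose f hf using hy
  refine Nat.card_le_card_of_injective f fun y z hyz => ?_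
  apply Subtype.ext
  apply Subtype.ext
  rw [hf, hf, hyz]

/-- **The Thompson group.** -/
theorem row {K : Type u} [Group K] [IsSimpleGroup K] (h : Spor.IsoTh K) : Row K := by
  obtain ⟨e⟩ := h
  refine Row.congr ?_ e.symm
  have hs : IsSimpleGroup Spor.Th := e.symm.isSimpleGroup
  have hcard : Nat.card Spor.Th = 90745943887872000 := Cfsg.Agent.H723.Spor.Th.card_th
  have hfin : Finite Spor.Th := Nat.finite_of_card_ne_zero (by rw [hcard]; norm_num)
  have hset := Cfsg.Agent.H723.Spor.Th.setup Cfsg.Agent.KFacts.Th.Main.ctx Cfsg.Agent.H723.Spor.Th.hone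
  exact Row.of_card (p := 31) (c := 56) hcard (by norm_num) (by norm_num) Cfsg.Agent.S2057.result (by norm_num)
    (by norm_num) (by norm_num) (by norm_num) (by norm_num) (by norm_num) (by norm_num) _ (card_le hset) (by norm_num)

end Cfsg.Agent.H951.TCRowTh
end
end
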